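import Mathlib

/-!
`H¹` of a cyclic group in terms of the value of a cocycle at a generator.
-/

set_option autoImplicit false

open groupCohomology

universe u

namespace Groth.Agent.ASCover

section

variable {k : Type u} [CommRing k] {G : Type u} [Group G] {V : Type u} [AddCommGroup V] [Module k V]
  (ρ : Representation k G V) (g : G)

/-- The value of a cocycle at a power of `g`. -/
theorem cocycle_pow (x : cocycles₁ (Rep.of ρ)) (i : ℕ) :
    x (g ^ i) = ∑ j ∈ Finset.range i, (ρ g ^ j) (x g) := by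
  induction i with
  | zero => simp
  | succ i ih =>
    rw [Finset.sum_range_succ, ← ih, pow_succ]
    have h := (mem_cocycles₁_iff (x : G → V)).1 x.2 (g ^ i) g
    rw [h, add_comm, ← map_pow]

theorem cocycle_eq_of_gen (hgen : ∀ x : G, ∃ i : ℕ, g ^ i = x) (x y : cocycles₁ (Rep.of ρ))
    (h : x g = y g) : x = y := by
  refine cocycles₁_ext fun a => ?_
  obtain ⟨i, rfl⟩ := hgen a
  rw [cocycle_pow, cocycle_pow, h]

theorem exists_cocycle (hgen : ∀ x : G, ∃ i : ℕ, g ^ i = x) {p : ℕ} (hp : 0 < p)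
    (hord : orderOf g = p) (m : V) (hm : ∑ j ∈ Finset.range p, (ρ g ^ j) m = 0) :
    ∃ x : cocycles₁ (Rep.of ρ), x g = m := by
  obtain ⟨S, hS⟩ : ∃ S : ℕ → V, ∀ i, S i = ∑ j ∈ Finset.range i, (ρ g ^ j) m := ⟨_, fun _ => rfl⟩
  have hadd : ∀ a b, S (a + b) = S a + (ρ g ^ a) (S b) := fun a b => by
    simp [hS, Finset.sum_range_add, map_sum, pow_add]
  have hper : ∀ a, S a = S (a % p) := by
    intro a
    induction a using Nat.strong_induction_on with
    | _ a ih =>
      rcases lt_or_ge a p with h | h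
      · rw [Nat.mod_eq_of_lt h]
      · obtain ⟨b, rfl⟩ := Nat.exists_eq_add_of_le h
        have hgp : ρ g ^ p = 1 := by rw [← map_pow, ← hord, pow_orderOf_eq_one, map_one]
        rw [hadd, hS p, hm, zero_add, hgp, Nat.add_mod_left, ← ih b (by omega)]
        rfl
  choose ind hind using hgen
  have hval : ∀ i, S (ind (g ^ i)) = S i := fun i => by
    rw [hper (ind (g ^ i)), hper i, ← hord, pow_inj_mod.1 (hind (g ^ i))]
  refine ⟨⟨fun a => S (ind a), (mem_cocycles₁_iff (A := Rep.of ρ) _).2 fun a b => ?_⟩, ?_⟩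
  · show S (ind (a * b)) = ρ a (S (ind b)) + S (ind a)
    conv_lhs => rw [← hind a, ← hind b, ← pow_add, hval, hadd]
    rw [add_comm, ← map_pow, hind a]
  · show S (ind g) = m
    have := hval 1
    rw [pow_one] at this
    rw [this, hS]
    simp

/-- The class map from the kernel of the norm to `H¹`. -/
theorem exists_classMap (hg : ∀ x : G, x ∈ Subgroup.zpowers g) [Finite G] {p : ℕ}
    (hG : Nat.card G = p) :
    ∃ ψ : LinearMap.ker (∑ j ∈ Finset.range p, ρ g ^ j) →ₗ[k] H1 (Rep.of ρ),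
      Function.Surjective ψ ∧ (∀ m, ψ m = 0 ↔ (m : V) ∈ LinearMap.range (ρ g - 1)) ∧
      (∀ x : cocycles₁ (Rep.of ρ), x g ∈ LinearMap.ker (∑ j ∈ Finset.range p, ρ g ^ j)) ∧
      (∀ (x : cocycles₁ (Rep.of ρ)) (h : x g ∈ LinearMap.ker (∑ j ∈ Finset.range p, ρ g ^ j)),
        ψ ⟨x g, h⟩ = H1π (Rep.of ρ) x) ∧
      (∀ m : LinearMap.ker (∑ j ∈ Finset.range p, ρ g ^ j), ∃ x : cocycles₁ (Rep.of ρ), x g = m) := by
  have hord : orderOf g = p := (orderOf_eq_card_of_forall_mem_zpowers hg).trans hG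
  have hp : 0 < p := hord ▸ orderOf_pos g
  have hgen : ∀ x : G, ∃ i : ℕ, g ^ i = x := fun x =>
    (Submonoid.mem_powers_iff x g).1 (mem_powers_iff_mem_zpowers.2 (hg x))
  have hker : ∀ x : cocycles₁ (Rep.of ρ),
      x g ∈ LinearMap.ker (∑ j ∈ Finset.range p, ρ g ^ j) := fun x => by
    have h := cocycle_pow ρ g x p
    rw [← hord, pow_orderOf_eq_one, cocycles₁_map_one, hord] at h
    rw [LinearMap.mem_ker, LinearMap.sum_apply]
    exact h.symm
  let ev : cocycles₁ (Rep.of ρ) →ₗ[k] LinearMap.ker (∑ j ∈ Finset.range p, ρ g ^ j) :=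
    { toFun := fun x => ⟨x g, hker x⟩, map_add' := fun _ _ => rfl, map_smul' := fun _ _ => rfl }
  have hbij : Function.Bijective ev := by
    refine ⟨fun x y h => cocycle_eq_of_gen ρ g hgen x y (congrArg Subtype.val h), fun m => ?_⟩
    obtain ⟨x, hx⟩ := exists_cocycle ρ g hgen hp hord m.1
      ((LinearMap.sum_apply _ _ _).symm.trans (LinearMap.mem_ker.1 m.2))
    exact ⟨x, Subtype.ext hx⟩
  let e := LinearEquiv.ofBijective ev hbij
  refine ⟨(H1π (Rep.of ρ)).hom ∘ₗ e.symm.toLinearMap, ?_, fun m => ?_, hker, fun x h => ?_,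
    fun m => ⟨e.symm m, congrArg Subtype.val (e.apply_symm_apply m)⟩⟩
  · have h : Function.Surjective (H1π (Rep.of ρ)).hom :=
      (ModuleCat.epi_iff_surjective (H1π (Rep.of ρ))).1 inferInstance
    exact h.comp e.symm.surjective
  · obtain ⟨x, rfl⟩ := e.surjective m
    show H1π (Rep.of ρ) (e.symm (e x)) = 0 ↔ x g ∈ LinearMap.range (ρ g - 1)
    rw [e.symm_apply_apply, H1π_eq_zero_iff]
    constructor
    · rintro ⟨v, hv⟩
      exact ⟨v, by rw [← hv]; rfl⟩
    · rintro ⟨v, hv⟩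
      refine ⟨v, ?_⟩
      have h : (⟨(d₀₁ (Rep.of ρ)).hom v, d₀₁_apply_mem_cocycles₁ (A := Rep.of ρ) v⟩ : cocycles₁ (Rep.of ρ)) = x :=
        cocycle_eq_of_gen ρ g hgen _ _ (by rw [← hv]; rfl)
      exact congrArg Subtype.val h
  · show H1π (Rep.of ρ) (e.symm (e x)) = _
    rw [e.symm_apply_apply]

end

theorem class_map {k : Type u} [CommRing k] {G : Type u} [Group G] {A B : Rep.{u} k G}
    (φ : A ⟶ B) (g : G) (x : cocycles₁ A) :
    ∃ y : cocycles₁ B, y g = φ.hom (x g) ∧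
      ((groupCohomology.functor k G 1).map φ).hom (H1π A x) = H1π B y :=
  ⟨mapCocycles₁ (MonoidHom.id G) φ x, (congrFun (coe_mapCocycles₁ (MonoidHom.id G) φ x) g :),
    H1π_comp_map_apply (MonoidHom.id G) φ x⟩

end Groth.Agent.ASCover
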