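import Mathlib

/-!
Leading terms of `h ↦ u ^ a · h (X u) - h` for an Artin–Schreier automorphism.
-/

set_option autoImplicit false

open PowerSeries

universe u

namespace Groth.Agent.ASCover

variable {k : Type u} [Field k]

theorem coeff_self_X_pow_mul (n : ℕ) (p : PowerSeries k) :
    coeff n (X ^ n * p) = constantCoeff p := by
  simpa using coeff_X_pow_mul p n 0

/-- Successive approximation for an operator raising the order by `e`. -/
theorem solve (T : PowerSeries k →ₗ[k] PowerSeries k) (e : ℕ) (lam : ℕ → k)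
    (hdvd : ∀ j f, X ^ j ∣ f → X ^ (j + e) ∣ T f)
    (hlead : ∀ j f, X ^ j ∣ f → coeff (j + e) (T f) = lam j * coeff j f)
    (Q : Submodule k (PowerSeries k)) (hQ : ∀ f, T f ∈ Q)
    (hQlam : ∀ r ∈ Q, ∀ i, X ^ (i + e) ∣ r → lam i = 0 → coeff (i + e) r = 0)
    (m : PowerSeries k) (hm : m ∈ Q) (s : ℕ) (hs : X ^ (s + e) ∣ m) :
    ∃ y, X ^ s ∣ y ∧ T y = m := by
  -- residues
  obtain ⟨rs, hrs0, hrs1⟩ : ∃ rs : ℕ → PowerSeries k, rs 0 = m ∧ ∀ i, rs (i + 1) =
      rs i - T (C ((lam (s + i))⁻¹ * coeff (s + i + e) (rs i)) * X ^ (s + i)) :=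
    ⟨fun i => Nat.rec m
      (fun i r => r - T (C ((lam (s + i))⁻¹ * coeff (s + i + e) r) * X ^ (s + i))) i,
      rfl, fun _ => rfl⟩
  have hinv : ∀ i, rs i ∈ Q ∧ X ^ (s + i + e) ∣ rs i := by
    intro i
    induction i with
    | zero => rw [hrs0]; exact ⟨hm, by simpa using hs⟩
    | succ i ih =>
      rw [hrs1]
      refine ⟨Q.sub_mem ih.1 (hQ _), ?_⟩
      rw [X_pow_dvd_iff]
      intro l hl
      rw [map_sub]
      have hd : X ^ (s + i) ∣ C ((lam (s + i))⁻¹ * coeff (s + i + e) (rs i)) * X ^ (s + i) :=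
        dvd_mul_left _ _
      rcases (by omega : l < s + i + e ∨ l = s + i + e) with h | rfl
      · rw [X_pow_dvd_iff.mp ih.2 l h, X_pow_dvd_iff.mp (hdvd _ _ hd) l h, sub_zero]
      · rw [hlead _ _ hd, coeff_C_mul, coeff_X_pow, if_pos rfl, mul_one]
        by_cases hl0 : lam (s + i) = 0
        · rw [hQlam _ ih.1 _ ih.2 hl0, hl0]; simp
        · rw [← mul_assoc, mul_inv_cancel₀ hl0, one_mul, sub_self]
  let c : ℕ → k := fun i => (lam (s + i))⁻¹ * coeff (s + i + e) (rs i)
  refine ⟨X ^ s * mk c, dvd_mul_right _ _, ?_⟩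
  have hpart : ∀ i, rs i = m - T (X ^ s * ∑ t ∈ Finset.range i, C (c t) * X ^ t) := by
    intro i
    induction i with
    | zero => simp [hrs0]
    | succ i ih =>
      rw [hrs1, Finset.sum_range_succ, mul_add, map_add, ← sub_sub, ← ih]
      congr 2
      show C (c i) * X ^ (s + i) = _
      rw [pow_add]; ring
  have hzero : m - T (X ^ s * mk c) = 0 := by
    ext l
    rw [map_zero]
    have hd : X ^ (s + (l + 1)) ∣ X ^ s * mk c - X ^ s * ∑ t ∈ Finset.range (l + 1), C (c t) * X ^ t := by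
      rw [← mul_sub, pow_add]
      refine mul_dvd_mul_left _ (X_pow_dvd_iff.mpr fun t ht => ?_)
      simp only [map_sub, coeff_mk, map_sum, coeff_C_mul, coeff_X_pow, mul_ite, mul_one, mul_zero]
      rw [Finset.sum_ite_eq, if_pos (Finset.mem_range.mpr ht), sub_self]
    have h1 : m - T (X ^ s * mk c) = rs (l + 1) -
        T (X ^ s * mk c - X ^ s * ∑ t ∈ Finset.range (l + 1), C (c t) * X ^ t) := by
      rw [hpart, map_sub T (X ^ s * mk c)]; abel
    rw [h1, map_sub, X_pow_dvd_iff.mp (hinv (l + 1)).2 l (by omega),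
      X_pow_dvd_iff.mp (hdvd _ _ hd) l (by omega), sub_zero]
  exact (sub_eq_zero.mp hzero).symm

variable (u : PowerSeries k) (n : ℕ)

theorem dvd_subst_sub {u : PowerSeries k} (hu : X ^ n ∣ u - 1) :
    ∀ (M : ℕ) (g : PowerSeries k), X ^ min M (n + 1) ∣ subst (X * u) g - g := by
  have hs : HasSubst (X * u) := HasSubst.of_constantCoeff_zero' (by simp)
  intro M
  induction M with
  | zero => intro g; simp
  | succ M ih =>
    intro g
    have hg := eq_shift_mul_X_add_const g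
    set g' := mk fun p => coeff (p + 1) g
    have h1 : subst (X * u) g - g =
        X * u * (subst (X * u) g' - g') + g' * (X * (u - 1)) := by
      conv_lhs => rw [hg]
      rw [subst_add hs, subst_mul hs, subst_X hs, subst_C]
      change subst (X * u) g' * (X * u) + C (constantCoeff g) - (g' * X + C (constantCoeff g)) = _
      ring
    rw [h1]
    refine dvd_add ?_ (dvd_mul_of_dvd_right (dvd_trans (pow_dvd_pow _ (min_le_right _ _)) ?_) _)
    · refine dvd_trans (pow_dvd_pow _ (show min (M + 1) (n + 1) ≤ 1 + min M (n + 1) by omega)) ?_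
      rw [pow_add, pow_one]
      exact mul_dvd_mul (dvd_mul_right X u) (ih g')
    · rw [pow_succ']
      exact mul_dvd_mul_left X hu

theorem constantCoeff_of_dvd {n : ℕ} (hn : 0 < n) {u : PowerSeries k} (hu : X ^ n ∣ u - 1) :
    constantCoeff u = 1 := by
  have h1 := (X_pow_dvd_iff.mp hu) 0 hn
  rwa [map_sub, coeff_one, if_pos rfl, sub_eq_zero, coeff_zero_eq_constantCoeff] at h1

/-- Coefficient at `n` of powers of a unit `≡ 1 mod X ^ n`. -/
theorem pow_sub_one {n : ℕ} (hn : 0 < n) {u : PowerSeries k} (hu : X ^ n ∣ u - 1) (e : ℕ) :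
    X ^ n ∣ u ^ e - 1 ∧ coeff n (u ^ e) = (e : k) * coeff n u := by
  induction e with
  | zero => simp [coeff_one, hn.ne']
  | succ e ih =>
    have h1 : u ^ (e + 1) - 1 = (u ^ e - 1) + (u - 1) + (u ^ e - 1) * (u - 1) := by ring
    refine ⟨h1 ▸ dvd_add (dvd_add ih.1 hu) (Dvd.dvd.mul_right ih.1 _), ?_⟩
    have h2 := congrArg (coeff n) h1
    simp only [map_sub, map_add, coeff_one, hn.ne', if_false, sub_zero, ih.2] at h2
    rw [h2, X_pow_dvd_iff.mp (show X ^ (n + n) ∣ (u ^ e - 1) * (u - 1) by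
      rw [pow_add]; exact mul_dvd_mul ih.1 hu) n (by omega)]
    push_cast; ring

theorem zpow_sub_one {n : ℕ} (hn : 0 < n) (u : (PowerSeries k)ˣ) (hu : X ^ n ∣ (u : PowerSeries k) - 1)
    (e : ℤ) :
    X ^ n ∣ ((u ^ e : (PowerSeries k)ˣ) : PowerSeries k) - 1 ∧
      coeff n ((u ^ e : (PowerSeries k)ˣ) : PowerSeries k) = (e : k) * coeff n (u : PowerSeries k) := by
  obtain ⟨t, rfl | rfl⟩ := Int.eq_nat_or_neg e
  · simpa using pow_sub_one hn hu t
  · have hv : X ^ n ∣ ((u⁻¹ : (PowerSeries k)ˣ) : PowerSeries k) - 1 := by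
      have : ((u⁻¹ : (PowerSeries k)ˣ) : PowerSeries k) - 1 =
          -(((u⁻¹ : (PowerSeries k)ˣ) : PowerSeries k) * ((u : PowerSeries k) - 1)) := by
        rw [mul_sub, mul_one, Units.inv_mul]; ring
      rw [this, dvd_neg]
      exact Dvd.dvd.mul_left hu _
    have hc : coeff n ((u⁻¹ : (PowerSeries k)ˣ) : PowerSeries k) = - coeff n (u : PowerSeries k) := by
      have h1 : ((u⁻¹ : (PowerSeries k)ˣ) : PowerSeries k) + (u : PowerSeries k) =
          1 + 1 - (((u⁻¹ : (PowerSeries k)ˣ) : PowerSeries k) - 1) * ((u : PowerSeries k) - 1) := by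
        rw [mul_sub, mul_one, sub_mul, Units.inv_mul]; ring
      have h2 := congrArg (coeff n) h1
      simp only [map_add, map_sub, coeff_one, hn.ne', if_false, zero_add, zero_sub] at h2
      rw [X_pow_dvd_iff.mp (show X ^ (n + n) ∣ (((u⁻¹ : (PowerSeries k)ˣ) : PowerSeries k) - 1) *
        ((u : PowerSeries k) - 1) by rw [pow_add]; exact mul_dvd_mul hv hu) n (by omega), neg_zero] at h2
      exact eq_neg_of_add_eq_zero_left h2
    simp only [zpow_neg, zpow_natCast, ← inv_pow, Units.val_pow_eq_pow_val]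
    refine ⟨(pow_sub_one hn hv t).1, ?_⟩
    rw [(pow_sub_one hn hv t).2, hc]
    push_cast; ring

/-- `u ^ n (1 + X ^ n) = 1` gives `u = 1 - X ^ n / n + …`. -/
theorem u_facts {n : ℕ} (hn : 0 < n) (hn0 : (n : k) ≠ 0) {u : PowerSeries k}
    (hu1 : constantCoeff u = 1) (hun : u ^ n * (1 + X ^ n) = 1) :
    X ^ n ∣ u - 1 ∧ coeff n u = -(n : k)⁻¹ := by
  have hgeo : (∑ i ∈ Finset.range n, u ^ i) * (u - 1) = u ^ n - 1 := geom_sum_mul u n
  have hunit : IsUnit (∑ i ∈ Finset.range n, u ^ i) := by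
    rw [isUnit_iff_constantCoeff, map_sum]
    simpa [hu1] using hn0
  have hd : X ^ n ∣ u ^ n - 1 := ⟨-(u ^ n), by linear_combination hun⟩
  rw [← hgeo] at hd
  have hdu : X ^ n ∣ u - 1 := hunit.dvd_mul_left.mp hd
  refine ⟨hdu, ?_⟩
  have h2 := congrArg (coeff n) hun
  rw [mul_add, mul_one, map_add, (pow_sub_one hn hdu n).2, coeff_mul_X_pow' (u ^ n) n n,
    if_pos le_rfl, Nat.sub_self, coeff_zero_eq_constantCoeff, map_pow, hu1, one_pow, coeff_one,
    if_neg hn.ne'] at h2
  exact eq_neg_of_add_eq_zero_left (by field_simp; linear_combination h2)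

/-- The leading term of `f ↦ v · f (X u) - f`. -/
theorem twist_lead {n : ℕ} (hn : 0 < n) (uu : (PowerSeries k)ˣ)
    (hu : X ^ n ∣ (uu : PowerSeries k) - 1) (a : ℤ) (j : ℕ) (f : PowerSeries k) (hf : X ^ j ∣ f) :
    X ^ (j + n) ∣ ((uu ^ a : (PowerSeries k)ˣ) : PowerSeries k) * subst (X * (uu : PowerSeries k)) f - f ∧
      coeff (j + n) (((uu ^ a : (PowerSeries k)ˣ) : PowerSeries k) *
        subst (X * (uu : PowerSeries k)) f - f) =
        (((a + j : ℤ) : k) * coeff n (uu : PowerSeries k)) * coeff j f := by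
  obtain ⟨g, rfl⟩ := hf
  set v : PowerSeries k := ((uu ^ a : (PowerSeries k)ˣ) : PowerSeries k)
  set w : PowerSeries k := ((uu ^ (a + j) : (PowerSeries k)ˣ) : PowerSeries k) with hw
  have hs : HasSubst (X * (uu : PowerSeries k)) := HasSubst.of_constantCoeff_zero' (by simp)
  have hwv : v * (uu : PowerSeries k) ^ j = w := by
    simp only [v, hw, zpow_add, zpow_natCast, Units.val_mul, Units.val_pow_eq_pow_val]
  have h1 : v * subst (X * (uu : PowerSeries k)) (X ^ j * g) - X ^ j * g =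
      X ^ j * ((w - 1) * g + w * (subst (X * (uu : PowerSeries k)) g - g)) := by
    rw [subst_mul hs, subst_pow hs, subst_X hs, ← hwv, mul_pow]
    ring
  obtain ⟨hw1, hw2⟩ := zpow_sub_one hn uu hu (a + j)
  have hsub : X ^ (n + 1) ∣ subst (X * (uu : PowerSeries k)) g - g := by
    simpa using dvd_subst_sub n hu (n + 1) g
  rw [h1]
  refine ⟨?_, ?_⟩
  · rw [pow_add]
    exact mul_dvd_mul_left _ (dvd_add (Dvd.dvd.mul_right hw1 _)
      (Dvd.dvd.mul_left (dvd_trans (pow_dvd_pow _ (Nat.le_succ n)) hsub) _))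
  · rw [Nat.add_comm j n, coeff_X_pow_mul, map_add,
      X_pow_dvd_iff.mp (Dvd.dvd.mul_left hsub w) n (Nat.lt_succ_self n), add_zero]
    obtain ⟨z, hz⟩ := hw1
    have hz0 : constantCoeff z = ((a + j : ℤ) : k) * coeff n (uu : PowerSeries k) := by
      have h2 := congrArg (coeff n) hz
      rw [map_sub, coeff_one, if_neg hn.ne', sub_zero, hw2] at h2
      rw [h2, coeff_self_X_pow_mul]
    rw [hz, mul_assoc]
    rw [coeff_self_X_pow_mul, coeff_self_X_pow_mul, map_mul, hz0]

/-- Iterating a leading term computation. -/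
theorem iterate_lead (T : PowerSeries k →ₗ[k] PowerSeries k) (e : ℕ) (lam : ℕ → k)
    (hdvd : ∀ j f, X ^ j ∣ f → X ^ (j + e) ∣ T f)
    (hlead : ∀ j f, X ^ j ∣ f → coeff (j + e) (T f) = lam j * coeff j f) (t : ℕ) :
    ∀ j f, X ^ j ∣ f → X ^ (j + t * e) ∣ (T ^ t) f ∧
      coeff (j + t * e) ((T ^ t) f) = (∏ s ∈ Finset.range t, lam (j + s * e)) * coeff j f := by
  induction t with
  | zero => intro j f hf; simpa using hf
  | succ t ih =>
    intro j f hf
    obtain ⟨h1, h2⟩ := ih j f hf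
    rw [pow_succ', Module.End.mul_apply, Nat.succ_mul, ← Nat.add_assoc, Finset.prod_range_succ]
    refine ⟨hdvd _ _ h1, ?_⟩
    rw [hlead _ _ h1, h2]
    ring

end Groth.Agent.ASCover
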