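import Groth.Agent.ASCover.Leading

/-!
Kernel of the norm and image of `σ - 1` for the Artin–Schreier automorphism of `k[[t]]`.
-/

set_option autoImplicit false

open PowerSeries

universe u

namespace Groth.Agent.ASCover

variable {k : Type u} [Field k] (p : ℕ) [Fact p.Prime] [CharP k p]

theorem geom_eq_pow {V : Type u} [AddCommGroup V] [Module k V] (σ : Module.End k V) :
    ∑ j ∈ Finset.range p, σ ^ j = (σ - 1) ^ (p - 1) := by
  have hp : 0 < p := (Fact.out (p := p.Prime)).pos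
  have hX : ∑ j ∈ Finset.range p, (Polynomial.X : Polynomial k) ^ j =
      (Polynomial.X - 1) ^ (p - 1) := by
    refine mul_right_cancel₀ (b := (Polynomial.X : Polynomial k) - 1)
      (by simpa using Polynomial.X_sub_C_ne_zero (1 : k)) ?_
    rw [geom_sum_mul, ← pow_succ, Nat.sub_add_cancel hp, sub_pow_char, one_pow]
  simpa using congrArg (Polynomial.aeval σ) hX

theorem sub_one_pow {V : Type u} [AddCommGroup V] [Module k V] (σ : Module.End k V)
    (hσp : σ ^ p = 1) : (σ - 1) ^ p = 0 := by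
  have hp : 0 < p := (Fact.out (p := p.Prime)).pos
  calc (σ - 1) ^ p = (σ - 1) ^ (p - 1) * (σ - 1) := by rw [← pow_succ, Nat.sub_add_cancel hp]
    _ = 0 := by rw [← geom_eq_pow, geom_sum_mul, hσp, sub_self]

theorem dvd_smul' {d f : PowerSeries k} (c : k) (h : d ∣ f) : d ∣ c • f := by
  rw [smul_eq_C_mul]; exact h.mul_left _

variable {n : ℕ} (hn : 0 < n) (hpn : ¬ p ∣ n) (uu : (PowerSeries k)ˣ)
  (hu : X ^ n ∣ (uu : PowerSeries k) - 1) (hc : coeff n (uu : PowerSeries k) ≠ 0)
  (a : ℤ) (σ : Module.End k (PowerSeries k))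
  (hσ : ∀ h, σ h = ((uu ^ a : (PowerSeries k)ˣ) : PowerSeries k) * subst (X * (uu : PowerSeries k)) h)

/-- The multiplier of the leading term of `σ - 1`. -/
noncomputable def lamD (j : ℕ) : k := ((a + j : ℤ) : k) * coeff n (uu : PowerSeries k)

include hn hu hσ in
theorem sub_one_lead (j : ℕ) (f : PowerSeries k) (hf : X ^ j ∣ f) :
    X ^ (j + n) ∣ (σ - 1) f ∧
      coeff (j + n) ((σ - 1) f) = lamD (n := n) uu a j * coeff j f := by
  rw [LinearMap.sub_apply, Module.End.one_apply, hσ]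
  exact twist_lead hn uu hu a j f hf

include hn hu hσ in
theorem norm_lead (j : ℕ) (f : PowerSeries k) (hf : X ^ j ∣ f) :
    X ^ (j + (p - 1) * n) ∣ (∑ i ∈ Finset.range p, σ ^ i) f ∧
      coeff (j + (p - 1) * n) ((∑ i ∈ Finset.range p, σ ^ i) f) =
        (∏ s ∈ Finset.range (p - 1), lamD (n := n) uu a (j + s * n)) * coeff j f := by
  rw [geom_eq_pow]
  exact iterate_lead _ n _ (fun j f hf => (sub_one_lead hn uu hu a σ hσ j f hf).1)
    (fun j f hf => (sub_one_lead hn uu hu a σ hσ j f hf).2) (p - 1) j f hf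

include hc in
theorem lamD_eq_zero_iff (j : ℕ) : lamD (n := n) uu a j = 0 ↔ (p : ℤ) ∣ a + j := by
  rw [lamD, mul_eq_zero, or_iff_left hc, CharP.intCast_eq_zero_iff k p]

include hpn hc in
theorem prod_lam_eq_zero_iff (j : ℕ) :
    ∏ s ∈ Finset.range (p - 1), lamD (n := n) uu a (j + s * n) = 0 ↔ ¬ (p : ℤ) ∣ a + j - n := by
  have hp : p.Prime := Fact.out
  rw [Finset.prod_eq_zero_iff]
  constructor
  · rintro ⟨s, hs, h0⟩ hd
    rw [lamD_eq_zero_iff p uu hc] at h0
    rw [Finset.mem_range] at hs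
    have h2 := dvd_sub h0 hd
    push_cast at h2
    have h3 : (p : ℤ) ∣ (((s + 1) * n : ℕ) : ℤ) := by
      have h4 : (((s + 1) * n : ℕ) : ℤ) = a + ((j : ℤ) + (s : ℤ) * n) - (a + j - n) := by push_cast; ring
      exact h4 ▸ h2
    rcases hp.dvd_mul.1 (Int.natCast_dvd_natCast.1 h3) with h | h
    · exact absurd (Nat.le_of_dvd (Nat.succ_pos s) h) (by omega)
    · exact hpn h
  · intro hnd
    have hn0 : (n : ZMod p) ≠ 0 := by rwa [Ne, ZMod.natCast_eq_zero_iff]
    let s : ℕ := ((-(a + j : ℤ) : ZMod p) * (n : ZMod p)⁻¹).val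
    have hs : (p : ℤ) ∣ a + ((j + s * n : ℕ) : ℤ) := by
      rw [← ZMod.intCast_zmod_eq_zero_iff_dvd]
      simp only [s]
      push_cast
      rw [ZMod.natCast_zmod_val, mul_assoc, inv_mul_cancel₀ hn0]
      ring
    have hsp : s < p := ZMod.val_lt _
    refine ⟨s, Finset.mem_range.2 ?_, (lamD_eq_zero_iff p uu hc a _).2 hs⟩
    by_contra hge
    have hsv : s = p - 1 := by omega
    refine hnd ?_
    rw [hsv] at hs
    have h2 : a + j - n = a + ((j + (p - 1) * n : ℕ) : ℤ) - (p : ℤ) * n := by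
      push_cast [Nat.cast_sub hp.one_le]; ring
    exact h2 ▸ dvd_sub hs (dvd_mul_right _ _)

include hn hpn hu hc hσ in
theorem ker_norm_coeff {r : PowerSeries k}
    (hr : r ∈ LinearMap.ker (∑ i ∈ Finset.range p, σ ^ i)) {i : ℕ} (hi : X ^ i ∣ r)
    (hd : (p : ℤ) ∣ a + i - n) : coeff i r = 0 := by
  have h := (norm_lead p hn uu hu a σ hσ i r hi).2
  rw [LinearMap.mem_ker.1 hr, map_zero, eq_comm, mul_eq_zero] at h
  exact h.resolve_left fun h0 => (prod_lam_eq_zero_iff p hpn uu hc a i).1 h0 hd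

variable (hσp : σ ^ p = 1)

include hn hpn hu hc hσ hσp in
theorem mem_range_sub_one_iff (m : PowerSeries k) :
    m ∈ LinearMap.range (σ - 1) ↔
      m ∈ LinearMap.ker (∑ i ∈ Finset.range p, σ ^ i) ∧ X ^ n ∣ m := by
  have hker : ∀ f, (σ - 1) f ∈ LinearMap.ker (∑ i ∈ Finset.range p, σ ^ i) := fun f => by
    rw [LinearMap.mem_ker, ← Module.End.mul_apply, geom_sum_mul, hσp, sub_self, LinearMap.zero_apply]
  constructor
  · rintro ⟨f, rfl⟩
    exact ⟨hker f, by simpa using (sub_one_lead hn uu hu a σ hσ 0 f (by simp)).1⟩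
  · rintro ⟨h1, h2⟩
    obtain ⟨y, -, hy⟩ := solve (σ - 1) n (lamD (n := n) uu a)
      (fun j f hf => (sub_one_lead hn uu hu a σ hσ j f hf).1)
      (fun j f hf => (sub_one_lead hn uu hu a σ hσ j f hf).2) _ hker
      (fun r hr i hi h0 => ker_norm_coeff p hn hpn uu hu hc a σ hσ hr hi (by
        rw [lamD_eq_zero_iff p uu hc] at h0
        push_cast
        convert h0 using 1; ring))
      m h1 0 (by simpa using h2)
    exact ⟨y, hy⟩

include hn hpn hu hc hσ hσp in
theorem exists_rep (i s : ℕ) (his : i < s)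
    (hs : X ^ (s + (p - 1) * n) ∣ (∑ j ∈ Finset.range p, σ ^ j) (X ^ i)) :
    ∃ z, z ∈ LinearMap.ker (∑ j ∈ Finset.range p, σ ^ j) ∧ X ^ s ∣ X ^ i - z ∧
      coeff i z = 1 ∧ X ^ i ∣ z := by
  have hp : p.Prime := Fact.out
  obtain ⟨y, hy1, hy2⟩ := solve (∑ j ∈ Finset.range p, σ ^ j) ((p - 1) * n)
    (fun j => ∏ t ∈ Finset.range (p - 1), lamD (n := n) uu a (j + t * n))
    (fun j f hf => (norm_lead p hn uu hu a σ hσ j f hf).1)
    (fun j f hf => (norm_lead p hn uu hu a σ hσ j f hf).2) (LinearMap.ker (σ - 1))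
    (fun f => by
      rw [LinearMap.mem_ker, ← Module.End.mul_apply, mul_geom_sum, hσp, sub_self, LinearMap.zero_apply])
    (fun r hr l hl h0 => by
      have h := (sub_one_lead hn uu hu a σ hσ _ r hl).2
      rw [LinearMap.mem_ker.1 hr, map_zero, eq_comm, mul_eq_zero] at h
      refine h.resolve_left fun h1 => ?_
      rw [lamD_eq_zero_iff p uu hc] at h1
      refine (prod_lam_eq_zero_iff p hpn uu hc a l).1 h0 ?_
      have h2 : a + l - n = a + ((l + (p - 1) * n : ℕ) : ℤ) - (p : ℤ) * n := by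
        push_cast [Nat.cast_sub hp.one_le]; ring
      exact h2 ▸ dvd_sub h1 (dvd_mul_right _ _))
    ((∑ j ∈ Finset.range p, σ ^ j) (X ^ i))
    (by rw [LinearMap.mem_ker, ← Module.End.mul_apply, mul_geom_sum, hσp, sub_self, LinearMap.zero_apply])
    s hs
  refine ⟨X ^ i - y, ?_, by simpa using hy1, ?_, dvd_sub dvd_rfl ((pow_dvd_pow _ his.le).trans hy1)⟩
  · rw [LinearMap.mem_ker, map_sub, hy2, sub_self]
  · rw [map_sub, coeff_X_pow, if_pos rfl, X_pow_dvd_iff.mp hy1 i his, sub_zero]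

include hn hpn hu hc hσ in
theorem norm_X_pow_dvd (i : ℕ) (hi : ¬ (p : ℤ) ∣ a + i - n) :
    X ^ (i + 1 + (p - 1) * n) ∣ (∑ j ∈ Finset.range p, σ ^ j) (X ^ i) := by
  obtain ⟨h1, h2⟩ := norm_lead p hn uu hu a σ hσ i _ (dvd_refl _)
  rw [(prod_lam_eq_zero_iff p hpn uu hc a i).2 hi, zero_mul] at h2
  rw [X_pow_dvd_iff] at h1 ⊢
  intro l hl
  rcases (by omega : l < i + (p - 1) * n ∨ l = i + (p - 1) * n) with h | rfl
  · exact h1 l h
  · exact h2

include hn hu hσ in
theorem norm_X_pow_dvd_of_dvd (ha : a = 0) (i : ℕ) (hi : p ∣ i) :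
    X ^ (n + 1 + (p - 1) * n) ∣ (∑ j ∈ Finset.range p, σ ^ j) (X ^ i) := by
  have hp : p.Prime := Fact.out
  subst ha
  obtain ⟨l, rfl⟩ := hi
  obtain ⟨q, hq⟩ : ∃ q, p = q + 2 := ⟨p - 2, by have := hp.two_le; omega⟩
  have hD : (σ - 1) (X ^ (p * l)) = X ^ (p * l) * ((uu : PowerSeries k) ^ (p * l) - 1) := by
    rw [LinearMap.sub_apply, Module.End.one_apply, hσ, zpow_zero, Units.val_one, one_mul,
      subst_pow (HasSubst.of_constantCoeff_zero' (by simp)),
      subst_X (HasSubst.of_constantCoeff_zero' (by simp)), mul_pow]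
    ring
  rcases Nat.eq_zero_or_pos l with rfl | hl
  · rw [geom_eq_pow, show p - 1 = (p - 2) + 1 by omega, pow_succ, Module.End.mul_apply, hD]
    simp
  · have h1 : X ^ (p * l + p * n) ∣ (σ - 1) (X ^ (p * l)) := by
      rw [hD, pow_add]
      refine mul_dvd_mul_left _ ?_
      haveI : CharP (PowerSeries k) p :=
        charP_of_injective_ringHom (PowerSeries.C_injective (R := k)) p
      have h5 : (uu : PowerSeries k) ^ (p * l) - 1 = ((uu : PowerSeries k) ^ l - 1) ^ p := by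
        rw [sub_pow_char, one_pow, ← pow_mul, Nat.mul_comm l p]
      rw [h5, Nat.mul_comm p n, pow_mul]
      exact pow_dvd_pow_of_dvd (pow_sub_one hn hu l).1 p
    have h2 := (iterate_lead (σ - 1) n _ (fun j f hf => (sub_one_lead hn uu hu 0 σ hσ j f hf).1)
      (fun j f hf => (sub_one_lead hn uu hu 0 σ hσ j f hf).2) q _ _ h1).1
    rw [geom_eq_pow, show p - 1 = q + 1 by omega, pow_succ, Module.End.mul_apply]
    refine dvd_trans (pow_dvd_pow _ ?_) h2
    have h4 := Nat.le_mul_of_pos_right p hl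
    subst hq
    have e1 : (q + 1) * n = q * n + n := by ring
    have e2 : (q + 2) * n = q * n + 2 * n := by ring
    omega

include hn hpn hu hc hσ in
theorem ker_norm_span (z : ℕ → PowerSeries k)
    (hz : ∀ i < n, ¬ (p : ℤ) ∣ a + i - n →
      z i ∈ LinearMap.ker (∑ j ∈ Finset.range p, σ ^ j) ∧ coeff i (z i) = 1 ∧ X ^ i ∣ z i)
    (m : PowerSeries k) (hm : m ∈ LinearMap.ker (∑ j ∈ Finset.range p, σ ^ j)) :
    ∃ c : ℕ → k, X ^ n ∣ m -
      ∑ i ∈ (Finset.range n).filter (fun i : ℕ => ¬ (p : ℤ) ∣ a + i - n), c i • z i := by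
  suffices H : ∀ t, ∀ m ∈ LinearMap.ker (∑ j ∈ Finset.range p, σ ^ j), X ^ (n - t) ∣ m →
      ∃ c : ℕ → k, X ^ n ∣ m -
        ∑ i ∈ (Finset.range n).filter (fun i : ℕ => ¬ (p : ℤ) ∣ a + i - n), c i • z i from
    H n m hm (by simp)
  intro t
  induction t with
  | zero => intro m _ h; exact ⟨0, by simpa using h⟩
  | succ t ih =>
    intro m hm h
    rcases le_or_gt n t with ht | ht
    · exact ih m hm (by simpa [Nat.sub_eq_zero_of_le ht] using one_dvd m)
    obtain ⟨j, hj⟩ : ∃ j, n - (t + 1) = j := ⟨_, rfl⟩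
    have hj1 : n - t = j + 1 := by omega
    rw [hj] at h
    have hstep : ∀ w : PowerSeries k, X ^ j ∣ w → coeff j w = 0 → X ^ (n - t) ∣ w := fun w h1 h2 => by
      rw [hj1, X_pow_dvd_iff]
      intro l hl
      rcases (by omega : l < j ∨ l = j) with h3 | rfl
      · exact X_pow_dvd_iff.mp h1 l h3
      · exact h2
    by_cases hd : (p : ℤ) ∣ a + j - n
    · exact ih m hm (hstep m h (ker_norm_coeff p hn hpn uu hu hc a σ hσ hm h hd))
    · obtain ⟨z1, z2, z3⟩ := hz j (by omega) hd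
      obtain ⟨c, hc'⟩ := ih (m - coeff j m • z j) (sub_mem hm (Submodule.smul_mem _ _ z1))
        (hstep _ (dvd_sub h (dvd_smul' _ z3)) (by simp [z2]))
      refine ⟨c + Pi.single j (coeff j m), ?_⟩
      simp only [Pi.add_apply, add_smul, Finset.sum_add_distrib, Pi.single_apply, ite_smul,
        zero_smul, Finset.sum_ite_eq']
      rw [if_pos (Finset.mem_filter.2 ⟨Finset.mem_range.2 (by omega), hd⟩)]
      convert hc' using 1
      abel

omit [Fact p.Prime] [CharP k p] in
theorem lead_indep {ι : Type*} [Fintype ι] (d : ι → ℕ) (hd : Function.Injective d)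
    (hdn : ∀ i, d i < n) (z : ι → PowerSeries k) (hdvd : ∀ i, X ^ d i ∣ z i)
    (hne : ∀ i, coeff (d i) (z i) ≠ 0) (c : ι → k) (h : X ^ n ∣ ∑ i, c i • z i) (i : ι) : c i = 0 := by
  induction hi : d i using Nat.strong_induction_on generalizing i with
  | _ t ih =>
    subst hi
    have h1 := X_pow_dvd_iff.mp h (d i) (hdn i)
    rw [map_sum, Finset.sum_eq_single i] at h1
    · rw [map_smul, smul_eq_mul, mul_eq_zero] at h1
      exact h1.resolve_right (hne i)
    · intro l _ hl
      rw [map_smul, smul_eq_mul]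
      rcases lt_trichotomy (d l) (d i) with h2 | h2 | h2
      · rw [ih (d l) h2 l rfl, zero_mul]
      · exact absurd (hd h2) hl
      · rw [X_pow_dvd_iff.mp (hdvd l) (d i) h2, mul_zero]
    · simp

/-- Number of multiples of `p` in an interval. -/
theorem card_dvd (p : ℕ) (hp : 0 < p) (c : ℤ) (n : ℕ) :
    (((Finset.range n).filter fun i : ℕ => (p : ℤ) ∣ c + i).card : ℤ) =
      (c + n - 1) / p - (c - 1) / p := by
  induction n with
  | zero => simp
  | succ n ih =>
    have key : ∀ x : ℤ, x / (p : ℤ) = (x - 1) / p + if (p : ℤ) ∣ x then 1 else 0 := by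
      intro x
      have hp' : (0 : ℤ) < p := Int.natCast_pos.2 hp
      have h1 := Int.mul_ediv_add_emod x p
      have h2 := Int.emod_nonneg x hp'.ne'
      have h3 := Int.emod_lt_of_pos x hp'
      split_ifs with h
      · rw [Int.emod_eq_zero_of_dvd h, add_zero] at h1
        have : x - 1 = ((p : ℤ) - 1) + p * (x / p - 1) := by linear_combination -h1
        rw [this, Int.add_mul_ediv_left _ _ hp'.ne', Int.ediv_eq_zero_of_lt (a := (p : ℤ) - 1) (b := p) (by omega) (by omega)]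
        ring
      · have h4 : x % p ≠ 0 := fun h4 => h (Int.dvd_of_emod_eq_zero h4)
        have : x - 1 = (x % p - 1) + p * (x / p) := by linear_combination -h1
        rw [this, Int.add_mul_ediv_left _ _ hp'.ne',
          Int.ediv_eq_zero_of_lt (a := x % p - 1) (b := p) (by omega) (by omega)]
        ring
    rw [Finset.range_add_one, Finset.filter_insert]
    have hk := key (c + n)
    rw [show c + ((n + 1 : ℕ) : ℤ) - 1 = c + n by push_cast; ring, hk]
    split_ifs with h
    · rw [Finset.card_insert_of_notMem (by simp)]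
      push_cast
      rw [ih]; ring
    · rw [ih]; ring

end Groth.Agent.ASCover
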