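import Groth.Agent.ASCover.Cohom
import Groth.Agent.ASCover.Model

/-!
`H¹` of the twisted Artin–Schreier action on `k[[t]]` and the image of the derivative.
-/

set_option autoImplicit false

open PowerSeries groupCohomology

universe u

namespace Groth.Agent.ASCover

variable {k : Type u} [Field k] (p : ℕ) [Fact p.Prime] [CharP k p] {n : ℕ} (hn : 0 < n)
  (hpn : ¬ p ∣ n) (uu : (PowerSeries k)ˣ) (hu1 : constantCoeff (uu : PowerSeries k) = 1)
  (hun : (uu : PowerSeries k) ^ n * (1 + X ^ n) = 1)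
  {G : Type u} [Group G] [Finite G] (g : G) (hG : Nat.card G = p)
  (hg : ∀ x : G, x ∈ Subgroup.zpowers g)

theorem equiv_range_of_injective {M : Type u} [AddCommGroup M] [Module k M] {ι : Type} [Fintype ι]
    (Ψ : (ι → k) →ₗ[k] M) (hinj : Function.Injective Ψ) :
    Module.Finite k (LinearMap.range Ψ) ∧
      Module.finrank k (LinearMap.range Ψ) = Fintype.card ι :=
  ⟨Module.Finite.equiv (LinearEquiv.ofInjective Ψ hinj),
    (LinearEquiv.ofInjective Ψ hinj).finrank_eq.symm.trans (Module.finrank_pi k)⟩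

include hn hpn hu1 hun in
theorem facts : X ^ n ∣ (uu : PowerSeries k) - 1 ∧ coeff n (uu : PowerSeries k) ≠ 0 := by
  have hn0 : (n : k) ≠ 0 := by rwa [Ne, CharP.cast_eq_zero_iff k p]
  obtain ⟨h1, h2⟩ := u_facts hn hn0 hu1 hun
  exact ⟨h1, h2 ▸ neg_ne_zero.2 (inv_ne_zero hn0)⟩

include hG hg in
omit [Fact p.Prime] [CharP k p] [Finite G] in
theorem rho_pow_card {V : Type u} [AddCommGroup V] [Module k V] (ρ : Representation k G V) :
    ρ g ^ p = 1 := by
  rw [← map_pow, ← hG, ← orderOf_eq_card_of_forall_mem_zpowers hg, pow_orderOf_eq_one, map_one]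

include hn hpn hu1 hun hG hg in
theorem finrank_H1 (a : ℤ) (ρ : Representation k G (PowerSeries k))
    (hρ : ∀ h, ρ g h = ((uu ^ a : (PowerSeries k)ˣ) : PowerSeries k) * subst (X * (uu : PowerSeries k)) h) :
    Module.Finite k (groupCohomology.H1 (Rep.of ρ)) ∧
      (Module.finrank k (groupCohomology.H1 (Rep.of ρ)) : ℤ) =
        n - (a - 1) / (p : ℤ) + (a - 1 - n) / (p : ℤ) := by
  obtain ⟨hu, hc⟩ := facts p hn hpn uu hu1 hun
  have hσp := rho_pow_card p g hG hg ρ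
  obtain ⟨ψ, hsurj, hzero, -, -, -⟩ := exists_classMap ρ g hg hG
  have hrange := mem_range_sub_one_iff p hn hpn uu hu hc a (ρ g) hρ hσp
  have hex : ∀ i, ∃ z, i < n → ¬ (p : ℤ) ∣ a + i - n →
      z ∈ LinearMap.ker (∑ j ∈ Finset.range p, ρ g ^ j) ∧ coeff i z = 1 ∧ X ^ i ∣ z := by
    intro i
    by_cases hi : (p : ℤ) ∣ a + i - n
    · exact ⟨0, fun _ h => absurd hi h⟩
    · obtain ⟨z, h1, -, h2, h3⟩ := exists_rep p hn hpn uu hu hc a (ρ g) hρ hσp i (i + 1) (by omega)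
        (norm_X_pow_dvd p hn hpn uu hu hc a (ρ g) hρ i hi)
      exact ⟨z, fun _ _ => ⟨h1, h2, h3⟩⟩
  choose z hz using hex
  let S := (Finset.range n).filter (fun i : ℕ => ¬ (p : ℤ) ∣ a + i - n)
  have hS : ∀ i : S, (i : ℕ) < n ∧ ¬ (p : ℤ) ∣ a + (i : ℕ) - n := fun i =>
    ⟨Finset.mem_range.1 (Finset.mem_filter.1 i.2).1, (Finset.mem_filter.1 i.2).2⟩
  let w : S → LinearMap.ker (∑ j ∈ Finset.range p, ρ g ^ j) := fun i =>
    ⟨z i, (hz i (hS i).1 (hS i).2).1⟩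
  let Φ : (S → k) →ₗ[k] LinearMap.ker (∑ j ∈ Finset.range p, ρ g ^ j) := Fintype.linearCombination k w
  have hΦ : ∀ c, (Φ c : PowerSeries k) = ∑ i : S, c i • z i := fun c => by
    simp [Φ, w, Fintype.linearCombination_apply]
  have hinj : Function.Injective (ψ ∘ₗ Φ) := by
    rw [← LinearMap.ker_eq_bot, LinearMap.ker_eq_bot']
    intro c hc0
    have h := ((hrange _).1 ((hzero _).1 hc0)).2
    rw [hΦ] at h
    exact funext fun i => lead_indep (fun i : S => (i : ℕ)) Subtype.val_injective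
      (fun i => (hS i).1) _ (fun i => (hz i (hS i).1 (hS i).2).2.2)
      (fun i => by rw [(hz i (hS i).1 (hS i).2).2.1]; exact one_ne_zero) c h i
  have htop : LinearMap.range (ψ ∘ₗ Φ) = ⊤ := by
    rw [eq_top_iff]
    rintro y -
    obtain ⟨m, rfl⟩ := hsurj y
    obtain ⟨c, hc'⟩ := ker_norm_span p hn hpn uu hu hc a (ρ g) hρ z hz m.1 m.2
    refine ⟨fun i : S => c i, ?_⟩
    rw [LinearMap.comp_apply, eq_comm, ← sub_eq_zero, ← map_sub, hzero, hrange]
    refine ⟨(m - Φ _).2, ?_⟩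
    rw [AddSubgroupClass.coe_sub, hΦ, Finset.sum_coe_sort S (fun i => c i • z i)]
    exact hc'
  obtain ⟨h1, h2⟩ := equiv_range_of_injective (ψ ∘ₗ Φ) hinj
  rw [htop] at h1 h2
  rw [finrank_top, Fintype.card_coe] at h2
  refine ⟨Module.Finite.equiv (Submodule.topEquiv (R := k) (M := H1 (Rep.of ρ))), ?_⟩
  have hcnt := Finset.card_filter_add_card_filter_not (s := Finset.range n)
    (fun i : ℕ => (p : ℤ) ∣ a + i - n)
  rw [Finset.card_range] at hcnt
  have hd := card_dvd p (Fact.out (p := p.Prime)).pos (a - n) n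
  rw [Finset.filter_congr (q := fun i : ℕ => (p : ℤ) ∣ a + i - n)
    (fun i _ => by rw [show a - (n : ℤ) + i = a + i - n by ring]),
    show a - (n : ℤ) + n - 1 = a - 1 by ring, show a - (n : ℤ) - 1 = a - 1 - n by ring] at hd
  rw [h2]
  change ((S.card : ℕ) : ℤ) = _
  simp only [S]
  omega

include hn hpn hu1 hun hG hg in
theorem finrank_range_derivative (ρ₀ ρ₁ : Representation k G (PowerSeries k))
    (hρ₀ : ∀ h, ρ₀ g h = subst (X * (uu : PowerSeries k)) h)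
    (hρ₁ : ∀ h, ρ₁ g h = (uu : PowerSeries k) ^ (n + 1) * subst (X * (uu : PowerSeries k)) h)
    (φ : Rep.of ρ₀ ⟶ Rep.of ρ₁) (hφ : ∀ h : PowerSeries k, φ.hom h = derivative k h) :
    Module.Finite k (LinearMap.range ((groupCohomology.functor k G 1).map φ).hom) ∧
      (Module.finrank k (LinearMap.range ((groupCohomology.functor k G 1).map φ).hom) : ℤ) =
        ((n + 1) * (p - 1) : ℤ) / p - 1 - (n - 1 : ℤ) / p := by
  have hp : p.Prime := Fact.out
  obtain ⟨hu, hc⟩ := facts p hn hpn uu hu1 hun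
  have hσp₀ := rho_pow_card p g hG hg ρ₀
  have hσp₁ := rho_pow_card p g hG hg ρ₁
  have hρ₀' : ∀ h, ρ₀ g h =
      ((uu ^ (0 : ℤ) : (PowerSeries k)ˣ) : PowerSeries k) * subst (X * (uu : PowerSeries k)) h := by
    intro h; rw [zpow_zero, Units.val_one, one_mul, hρ₀]
  have hρ₁' : ∀ h, ρ₁ g h =
      ((uu ^ ((n + 1 : ℕ) : ℤ) : (PowerSeries k)ˣ) : PowerSeries k) * subst (X * (uu : PowerSeries k)) h := by
    intro h; rw [zpow_natCast, Units.val_pow_eq_pow_val, hρ₁]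
  obtain ⟨ψ₀, hsurj₀, hzero₀, -, hcl₀, hev₀⟩ := exists_classMap ρ₀ g hg hG
  obtain ⟨ψ₁, -, hzero₁, hker₁, hcl₁, -⟩ := exists_classMap ρ₁ g hg hG
  obtain ⟨T, hT⟩ : ∃ T : H1 (Rep.of ρ₀) →ₗ[k] H1 (Rep.of ρ₁),
      T = ((groupCohomology.functor k G 1).map φ).hom := ⟨_, rfl⟩
  suffices key : Module.Finite k (LinearMap.range T) ∧
      (Module.finrank k (LinearMap.range T) : ℤ) = ((n + 1) * (p - 1) : ℤ) / p - 1 - (n - 1 : ℤ) / p by
    rw [hT] at key
    exact key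
  have hnat : ∀ m₀ : LinearMap.ker (∑ j ∈ Finset.range p, ρ₀ g ^ j),
      ∃ m₁ : LinearMap.ker (∑ j ∈ Finset.range p, ρ₁ g ^ j),
        (m₁ : PowerSeries k) = derivative k (m₀ : PowerSeries k) ∧
          T (ψ₀ m₀) = ψ₁ m₁ := by
    intro m₀
    obtain ⟨x, hx⟩ := hev₀ m₀
    obtain ⟨y, hy1, hy2⟩ := class_map φ g x
    have h0 : m₀ = ⟨x g, hx.symm ▸ m₀.2⟩ := Subtype.ext hx.symm
    refine ⟨⟨y g, hker₁ y⟩, by rw [← hx, ← hφ]; exact hy1, ?_⟩
    rw [h0, hcl₀, hcl₁, hT]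
    exact hy2
  have hrange₀ := mem_range_sub_one_iff p hn hpn uu hu hc 0 (ρ₀ g) hρ₀' hσp₀
  have hrange₁ := mem_range_sub_one_iff p hn hpn uu hu hc _ (ρ₁ g) hρ₁' hσp₁
  have hex : ∀ i, ∃ z, i < n → ¬ (p : ℤ) ∣ 0 + i - n →
      z ∈ LinearMap.ker (∑ j ∈ Finset.range p, ρ₀ g ^ j) ∧ coeff i z = 1 ∧ X ^ i ∣ z ∧
        (p ∣ i → X ^ n ∣ derivative k z) := by
    intro i
    by_cases hi : i < n ∧ ¬ (p : ℤ) ∣ 0 + i - n
    swap
    · exact ⟨0, fun h1 h2 => absurd ⟨h1, h2⟩ hi⟩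
    by_cases hpi : p ∣ i
    · obtain ⟨z, h1, h2, h3, h4⟩ := exists_rep p hn hpn uu hu hc 0 (ρ₀ g) hρ₀' hσp₀ i (n + 1)
        (by omega) (norm_X_pow_dvd_of_dvd p hn uu hu 0 (ρ₀ g) hρ₀' rfl i hpi)
      refine ⟨z, fun _ _ => ⟨h1, h3, h4, fun _ => X_pow_dvd_iff.mpr fun l hl => ?_⟩⟩
      have h5 := X_pow_dvd_iff.mp h2 (l + 1) (by omega)
      rw [map_sub, coeff_X_pow, sub_eq_zero] at h5
      rw [coeff_derivative, ← h5]
      split_ifs with h6
      · rw [one_mul, ← Nat.cast_one, ← Nat.cast_add, CharP.cast_eq_zero_iff k p, h6]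
        exact hpi
      · rw [zero_mul]
    · obtain ⟨z, h1, -, h2, h3⟩ := exists_rep p hn hpn uu hu hc 0 (ρ₀ g) hρ₀' hσp₀ i (i + 1) (by omega)
        (norm_X_pow_dvd p hn hpn uu hu hc 0 (ρ₀ g) hρ₀' i hi.2)
      exact ⟨z, fun _ _ => ⟨h1, h2, h3, fun h => absurd h hpi⟩⟩
  choose z hz using hex
  let S₀ := (Finset.range n).filter (fun i : ℕ => ¬ (p : ℤ) ∣ 0 + i - n)
  let S := S₀.filter (fun i : ℕ => ¬ p ∣ i)
  have hS₀ : ∀ i ∈ S₀, i < n ∧ ¬ (p : ℤ) ∣ 0 + i - n := fun i h =>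
    ⟨Finset.mem_range.1 (Finset.mem_filter.1 h).1, (Finset.mem_filter.1 h).2⟩
  have hS : ∀ i : S, (i : ℕ) < n ∧ ¬ (p : ℤ) ∣ 0 + (i : ℕ) - n ∧ ¬ p ∣ (i : ℕ) := fun i =>
    ⟨(hS₀ _ (Finset.mem_filter.1 i.2).1).1, (hS₀ _ (Finset.mem_filter.1 i.2).1).2,
      (Finset.mem_filter.1 i.2).2⟩
  let w : S → LinearMap.ker (∑ j ∈ Finset.range p, ρ₀ g ^ j) := fun i =>
    ⟨z i, (hz i (hS i).1 (hS i).2.1).1⟩
  let Φ : (S → k) →ₗ[k] LinearMap.ker (∑ j ∈ Finset.range p, ρ₀ g ^ j) := Fintype.linearCombination k w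
  have hΦ : ∀ c, (Φ c : PowerSeries k) = ∑ i : S, c i • z i := fun c => by
    simp [Φ, w, Fintype.linearCombination_apply]
  let Ψ : (S → k) →ₗ[k] H1 (Rep.of ρ₁) :=
    T ∘ₗ ψ₀ ∘ₗ Φ
  have hpos : ∀ i : S, 0 < (i : ℕ) := fun i =>
    Nat.pos_of_ne_zero fun h => (hS i).2.2 (h ▸ dvd_zero p)
  have hinj : Function.Injective Ψ := by
    rw [← LinearMap.ker_eq_bot, LinearMap.ker_eq_bot']
    intro c hc0
    obtain ⟨m₁, hm1, hm2⟩ := hnat (Φ c)
    have h := ((hrange₁ _).1 ((hzero₁ m₁).1 (hm2.symm.trans hc0))).2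
    rw [hm1, hΦ, map_sum] at h
    simp only [Derivation.map_smul] at h
    refine funext fun i => lead_indep (fun i : S => (i : ℕ) - 1)
      (fun i j hij => Subtype.ext (by have := hpos i; have := hpos j; simp only at hij; omega))
      (fun i => by have := (hS i).1; omega) (fun i : S => derivative k (z i))
      (fun i => X_pow_dvd_iff.mpr fun l hl => ?_) (fun i => ?_) c h i
    · rw [coeff_derivative, X_pow_dvd_iff.mp (hz i (hS i).1 (hS i).2.1).2.2.1 (l + 1) (by omega),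
        zero_mul]
    · have h1 : (((i : ℕ) - 1 : ℕ) : k) + 1 = ((i : ℕ) : k) := by
        rw [← Nat.cast_add_one, Nat.sub_add_cancel (hpos i)]
      rw [coeff_derivative, Nat.sub_add_cancel (hpos i), (hz i (hS i).1 (hS i).2.1).2.1, one_mul, h1,
        Ne, CharP.cast_eq_zero_iff k p]
      exact (hS i).2.2
  have hran : LinearMap.range Ψ = LinearMap.range T := by
    refine le_antisymm (LinearMap.range_comp_le_range _ _) ?_
    rintro _ ⟨y, rfl⟩
    obtain ⟨m, rfl⟩ := hsurj₀ y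
    obtain ⟨c, hc'⟩ := ker_norm_span p hn hpn uu hu hc 0 (ρ₀ g) hρ₀' z
      (fun i h1 h2 => ⟨(hz i h1 h2).1, (hz i h1 h2).2.1, (hz i h1 h2).2.2.1⟩) m.1 m.2
    let R : LinearMap.ker (∑ j ∈ Finset.range p, ρ₀ g ^ j) :=
      ∑ i : S₀, c i • ⟨z i, (hz i (hS₀ i i.2).1 (hS₀ i i.2).2).1⟩
    have hR : ψ₀ m = ψ₀ R := by
      rw [← sub_eq_zero, ← map_sub, hzero₀, hrange₀]
      refine ⟨(m - R).2, ?_⟩
      rw [AddSubgroupClass.coe_sub, show (R : PowerSeries k) = ∑ i : S₀, c i • z i by simp [R],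
        Finset.sum_coe_sort S₀ (fun i => c i • z i)]
      exact hc'
    refine ⟨fun i : S => c i, ?_⟩
    have hdiff : T (ψ₀ (R - Φ fun i : S => c i)) = 0 := by
      obtain ⟨m₁, hm1, hm2⟩ := hnat (R - Φ fun i : S => c i)
      rw [hm2, hzero₁, hrange₁]
      refine ⟨m₁.2, ?_⟩
      rw [hm1, AddSubgroupClass.coe_sub, hΦ, show (R : PowerSeries k) = ∑ i : S₀, c i • z i by simp [R],
        Finset.sum_coe_sort S₀ (fun i => c i • z i), Finset.sum_coe_sort S (fun i => c i • z i),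
        ← Finset.sum_filter_not_add_sum_filter S₀ (fun i : ℕ => ¬ p ∣ i), add_sub_cancel_right, map_sum]
      refine Finset.dvd_sum fun i hi => ?_
      rw [Finset.mem_filter, not_not] at hi
      rw [Derivation.map_smul]
      exact dvd_smul' _ ((hz i (hS₀ i hi.1).1 (hS₀ i hi.1).2).2.2.2 hi.2)
    rw [map_sub, map_sub, sub_eq_zero] at hdiff
    exact ((congrArg _ hR).trans hdiff).symm
  obtain ⟨h1, h2⟩ := equiv_range_of_injective Ψ hinj
  rw [hran] at h1 h2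
  refine ⟨h1, ?_⟩
  rw [Fintype.card_coe] at h2
  rw [h2]
  have hdisj : S = Finset.range n \ ((Finset.range n).filter (fun i : ℕ => (p : ℤ) ∣ 0 + i) ∪
      (Finset.range n).filter (fun i : ℕ => (p : ℤ) ∣ -(n : ℤ) + i)) := by
    ext i
    simp only [S, S₀, Finset.mem_filter, Finset.mem_sdiff, Finset.mem_union, Finset.mem_range,
      zero_add, Int.natCast_dvd_natCast, show ((i : ℤ) - n) = -(n : ℤ) + i by ring]
    tauto
  have hd1 := card_dvd p hp.pos 0 n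
  have hd2 := card_dvd p hp.pos (-(n : ℤ)) n
  change ((S.card : ℕ) : ℤ) = _
  rw [hdisj, Finset.card_sdiff_of_subset (Finset.union_subset (Finset.filter_subset _ _)
    (Finset.filter_subset _ _)), Finset.card_union_of_disjoint, Finset.card_range,
    Nat.cast_sub, Nat.cast_add, hd1, hd2]
  · have e : ((n + 1) * (p - 1) : ℤ) = (-(n : ℤ) - 1) + (p : ℤ) * (n + 1) := by ring
    rw [e, Int.add_mul_ediv_left _ _ (Int.natCast_ne_zero.2 hp.ne_zero),
      show (0 : ℤ) + n - 1 = (n : ℤ) - 1 by ring, show -(n : ℤ) + n - 1 = 0 - 1 by ring]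
    ring
  · rw [← Finset.card_union_of_disjoint]
    · exact (Finset.card_le_card (Finset.union_subset (Finset.filter_subset _ _)
        (Finset.filter_subset _ _))).trans (Finset.card_range n).le
    all_goals refine Finset.disjoint_filter.2 fun i _ h h' => ?_
    all_goals exact hpn (Int.natCast_dvd_natCast.1 (by simpa using dvd_sub h h'))
  · exact Finset.disjoint_filter.2 fun i _ h h' => hpn
      (Int.natCast_dvd_natCast.1 (by simpa using dvd_sub h h'))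

end Groth.Agent.ASCover
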